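import Cfsg.Agent.Asch.SU3

/-! `11:5 < L₂(11) < SU₅(2)`, `7:3 < L₂(7) < SU₃(3)` and `S₄ < 4²:S₃ < SU₃(3)`. -/

set_option autoImplicit false

namespace Cfsg.Agent.Asch

open Matrix Cfsg.Geo Subgroup

/-- An element of order `11` of `SU₅(2)`. -/
def x52 : GL (Fin 5) K4 := uGL (τ := starRingAut)
  !![⟨1, 0⟩, ⟨0, 0⟩, ⟨0, 0⟩, ⟨1, 0⟩, ⟨0, 1⟩; ⟨1, 1⟩, ⟨0, 1⟩, ⟨0, 1⟩, ⟨0, 1⟩, ⟨0, 1⟩; ⟨0, 0⟩, ⟨0,
    1⟩, ⟨0, 0⟩, ⟨1, 1⟩, ⟨1, 0⟩; ⟨0, 0⟩, ⟨0, 0⟩, ⟨1, 1⟩, ⟨1, 0⟩, ⟨0, 1⟩; ⟨1, 0⟩, ⟨1, 1⟩, ⟨1, 1⟩,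
    ⟨0, 1⟩, ⟨1, 0⟩]
  (by decide +kernel)

theorem x52_mem : x52 ∈ SU1 _ starRingAut := uGL_mem _ (by decide +kernel)

/-- An element of order `5` of `SU₅(2)`. -/
def u52 : GL (Fin 5) K4 := uGL (τ := starRingAut)
  !![⟨0, 0⟩, ⟨1, 1⟩, ⟨1, 0⟩, ⟨1, 1⟩, ⟨0, 0⟩; ⟨0, 0⟩, ⟨1, 0⟩, ⟨0, 1⟩, ⟨0, 0⟩, ⟨1, 1⟩; ⟨1, 1⟩, ⟨1,
    1⟩, ⟨1, 0⟩, ⟨0, 0⟩, ⟨0, 0⟩; ⟨1, 1⟩, ⟨0, 1⟩, ⟨0, 1⟩, ⟨1, 1⟩, ⟨0, 1⟩; ⟨1, 0⟩, ⟨0, 1⟩, ⟨1, 0⟩,
    ⟨1, 0⟩, ⟨1, 1⟩]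
  (by decide +kernel)

theorem u52_mem : u52 ∈ SU1 _ starRingAut := uGL_mem _ (by decide +kernel)

/-- An involution of `L₂(11)`. -/
def z52 : GL (Fin 5) K4 := uGL (τ := starRingAut)
  !![⟨1, 0⟩, ⟨1, 1⟩, ⟨1, 1⟩, ⟨0, 1⟩, ⟨0, 1⟩; ⟨0, 1⟩, ⟨1, 0⟩, ⟨1, 1⟩, ⟨1, 1⟩, ⟨1, 0⟩; ⟨0, 1⟩, ⟨0,
    1⟩, ⟨0, 0⟩, ⟨0, 1⟩, ⟨0, 0⟩; ⟨1, 1⟩, ⟨0, 1⟩, ⟨1, 1⟩, ⟨1, 0⟩, ⟨1, 1⟩; ⟨1, 1⟩, ⟨1, 0⟩, ⟨0, 0⟩,
    ⟨0, 1⟩, ⟨0, 0⟩]
  (by decide +kernel)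

theorem z52_mem : z52 ∈ SU1 _ starRingAut := uGL_mem _ (by decide +kernel)

/-- An orbit of `L₂(11)`. -/
def s52 (v : Fin 5 → K4) : Bool := Nat.testBit
  0x200042148000004280102000480000840202080824000001000001000004081082000008000000000002400004000000040800000000100000000000002000008200000800000000000240000400000004080000000010000000000000200000000001410004020100800000010208000040008010202004800048002000000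
  (qc (v 0) + 4 * (qc (v 1) + 4 * (qc (v 2) + 4 * (qc (v 3) + 4 * qc (v 4)))))

theorem mem_s52 {g : GL (Fin 5) K4} (h : ∀ a b c d e, s52 ![a, b, c, d, e] →
    s52 (g.val *ᵥ ![a, b, c, d, e])) : g ∈ sstab {v | s52 v} := mem_sstab fun v hv => by
  rw [show v = ![v 0, v 1, v 2, v 3, v 4] from funext fun i => by fin_cases i <;> rfl] at hv ⊢
  exact h _ _ _ _ _ hv

/-- A transvection. -/
def w52 : GL (Fin 5) K4 := uGL (τ := starRingAut)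
  !![⟨1, 0⟩, ⟨0, 0⟩, ⟨0, 0⟩, ⟨0, 0⟩, ⟨0, 0⟩; ⟨0, 0⟩, ⟨1, 0⟩, ⟨0, 0⟩, ⟨0, 0⟩, ⟨0, 0⟩; ⟨0, 0⟩, ⟨0,
    0⟩, ⟨1, 0⟩, ⟨0, 0⟩, ⟨0, 0⟩; ⟨0, 0⟩, ⟨0, 0⟩, ⟨0, 0⟩, ⟨0, 0⟩, ⟨1, 0⟩; ⟨0, 0⟩, ⟨0, 0⟩, ⟨0, 0⟩,
    ⟨1, 0⟩, ⟨0, 0⟩]
  (by decide +kernel)

theorem w52_mem : w52 ∈ SU1 _ starRingAut := uGL_mem _ (by decide +kernel)

theorem not_fld52 {F : Type*} [Field F] [Fintype F] (hF : Fintype.card F = 2 ^ 2)
    {K : Subalgebra F (Matrix (Fin 5) (Fin 5) F)} (hK : IsFieldSubalgebra 5 K)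
    (ha : IsAdjointClosedFor (hermForm 5 F 2) K) {H : Subgroup (GL (Fin 5) F)}
    (hH : IsMaximalIn (GU 5 F 2 ⊓ specialLinear (Fin 5) F) H) : ¬ H ≤ subalgebraNormalizer K := by
  intro h
  have h1 : x52 ^ 11 = 1 := Units.ext (by rw [Units.val_pow_eq_pow_val]; decide +kernel)
  have h2 : x52 ≠ 1 := fun h => absurd (congrArg Units.val h) (by decide +kernel)
  haveI : Fact (Nat.Prime 11) := ⟨by norm_num⟩
  obtain ⟨H, h3, h4⟩ := singer_red hF (by norm_num) hK ha hH h (p := 11) (N := 11) Fact.out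
    (by norm_num) (by norm_num) (by norm_num) (by norm_num) 
    (fact_su hF (by omega) Fact.out 1244160 (by decide) (by decide)) (exists_K4 hF) x52_mem h1 h2
  exact h4.false h3 (sstab {v | s52 v}) ⟨mem_s52 (by decide +kernel), x52_mem⟩ (.refl _)
    (orderOf_eq_prime h1 h2) ⟨mem_s52 (by decide +kernel), u52_mem⟩
    (Units.ext (by rw [Units.val_mul, Units.val_mul, Units.val_pow_eq_pow_val]; decide +kernel))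
    ⟨mem_s52 (by decide +kernel), z52_mem⟩
    (fun h => absurd (congrArg Units.val h.eq) (by decide +kernel)) w52_mem
    fun h => absurd ((h ![⟨0, 0⟩, ⟨0, 0⟩, ⟨0, 0⟩, ⟨0, 0⟩, ⟨1, 1⟩]).1 (by decide +kernel)) (by decide +kernel)

instance factK9 : Fact (∀ r : ZMod 3, r ^ 2 ≠ 2 + 0 * r) := ⟨by decide⟩

/-- The field with nine elements. -/
abbrev K9 := QuadraticAlgebra (ZMod 3) 2 0

theorem exists_K9 {F : Type*} [Field F] [Fintype F] (hF : Fintype.card F = 3 ^ 2) :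
    ∃ e : K9 ≃+* F, ∀ x, e (starRingAut x) = fq hF (e x) :=
  exists_qa hF K9 (by decide +kernel) (by decide +kernel)

/-- An element of order `7` of `SU₃(3)`. -/
def x33 : GL (Fin 3) K9 := uGL (τ := starRingAut)
  !![⟨2, 0⟩, ⟨1, 2⟩, ⟨0, 2⟩; ⟨0, 1⟩, ⟨2, 0⟩, ⟨2, 2⟩; ⟨1, 1⟩, ⟨0, 1⟩, ⟨0, 1⟩]
  (by decide +kernel)

theorem x33_mem : x33 ∈ SU1 _ starRingAut := uGL_mem _ (by decide +kernel)

/-- An element of order `3` of `SU₃(3)`. -/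
def u33 : GL (Fin 3) K9 := uGL (τ := starRingAut)
  !![⟨2, 0⟩, ⟨2, 0⟩, ⟨2, 1⟩; ⟨1, 1⟩, ⟨2, 2⟩, ⟨0, 0⟩; ⟨1, 0⟩, ⟨1, 0⟩, ⟨2, 1⟩]
  (by decide +kernel)

theorem u33_mem : u33 ∈ SU1 _ starRingAut := uGL_mem _ (by decide +kernel)

/-- An involution of `L₂(7)`. -/
def z33 : GL (Fin 3) K9 := uGL (τ := starRingAut)
  !![⟨2, 0⟩, ⟨0, 0⟩, ⟨0, 0⟩; ⟨0, 0⟩, ⟨0, 0⟩, ⟨1, 0⟩; ⟨0, 0⟩, ⟨1, 0⟩, ⟨0, 0⟩]
  (by decide +kernel)

theorem z33_mem : z33 ∈ SU1 _ starRingAut := uGL_mem _ (by decide +kernel)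

/-- A diagonal matrix. -/
def d33 : GL (Fin 3) K9 := uGL (τ := starRingAut)
  !![⟨0, 1⟩, ⟨0, 0⟩, ⟨0, 0⟩; ⟨0, 0⟩, ⟨0, 2⟩, ⟨0, 0⟩; ⟨0, 0⟩, ⟨0, 0⟩, ⟨1, 0⟩]
  (by decide +kernel)

theorem d33_mem : d33 ∈ SU1 _ starRingAut := uGL_mem _ (by decide +kernel)

/-- A transvection. -/
def w33 : GL (Fin 3) K9 := uGL (τ := starRingAut)
  !![⟨1, 1⟩, ⟨0, 1⟩, ⟨0, 1⟩; ⟨0, 1⟩, ⟨1, 1⟩, ⟨0, 1⟩; ⟨0, 1⟩, ⟨0, 1⟩, ⟨1, 1⟩]
  (by decide +kernel)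

theorem w33_mem : w33 ∈ SU1 _ starRingAut := uGL_mem _ (by decide +kernel)

theorem not_fld33 {F : Type*} [Field F] [Fintype F] (hF : Fintype.card F = 3 ^ 2)
    {K : Subalgebra F (Matrix (Fin 3) (Fin 3) F)} (hK : IsFieldSubalgebra 3 K)
    (ha : IsAdjointClosedFor (hermForm 3 F 3) K) {H : Subgroup (GL (Fin 3) F)}
    (hH : IsMaximalIn (GU 3 F 3 ⊓ specialLinear (Fin 3) F) H) : ¬ H ≤ subalgebraNormalizer K := by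
  intro h
  have h1 : x33 ^ 7 = 1 := Units.ext (by rw [Units.val_pow_eq_pow_val]; decide +kernel)
  have h2 : x33 ≠ 1 := fun h => absurd (congrArg Units.val h) (by decide +kernel)
  haveI : Fact (Nat.Prime 7) := ⟨by norm_num⟩
  obtain ⟨H, h3, h4⟩ := singer_red hF (by norm_num) hK ha hH h (p := 7) (N := 7) Fact.out
    (by norm_num) (by norm_num) (by norm_num) (by norm_num) 
    (fact_su hF (by omega) Fact.out 864 (by decide) (by decide)) (exists_K9 hF) x33_mem h1 h2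
  exact h4.false h3 (sstab (mset 2 0
    0x1000000000200000810000001000000088004000008000011024080000000000020000040010200000000200001000080100040112008000000020000001020020100000c00000402001000080180000100000000010000000000))
    ⟨mem_mset (by decide +kernel), x33_mem⟩ (.refl _)
    (orderOf_eq_prime h1 h2) ⟨mem_mset (by decide +kernel), u33_mem⟩
    (Units.ext (by rw [Units.val_mul, Units.val_mul, Units.val_pow_eq_pow_val]; decide +kernel))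
    ⟨mem_mset (by decide +kernel), z33_mem⟩
    (fun h => absurd (congrArg Units.val h.eq) (by decide +kernel)) w33_mem
    (not_mem_mset ![⟨0, 0⟩, ⟨1, 1⟩, ⟨1, 1⟩] (by decide +kernel) (by decide +kernel))

instance decRealS {E : Type*} [Field E] [Fintype E] [DecidableEq E] (τ : E ≃+* E) (P₁ P₂ : E → Prop)
    [DecidablePred P₁] [DecidablePred P₂] : DecidablePred (realS (ι := Fin 3) τ P₁ P₂) :=
  fun _ => inferInstanceAs (Decidable (_ ∧ _))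

theorem not_sub3 {F : Type*} [Field F] [Fintype F] (hF : Fintype.card F = 3 ^ 2)
    {H : Subgroup (GL (Fin 3) F)} (hH : IsMaximalIn (GU 3 F 3 ⊓ specialLinear (Fin 3) F) H)
    {K : Subfield F} {P : GL (Fin 3) F} (hc : Fintype.card F = Nat.card K ^ 2)
    (h1 : IsFormRationalStructure (hermForm 3 F 3) K 1 P) : ¬ H ≤ subfieldSubgroup K P := by
  intro h
  obtain ⟨H, h2, h3⟩ := sub_red hF (by decide) hH hc h1 h (exists_K9 hF)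
  refine absurd (h3 _ (not_max h2 (B := sstab {v | realS starRingAut (· ^ 2 = 1) (fun _ => False) v})
    (fun g hg => ?_) w33_mem (fun h => absurd ((h ![1, 0, 0]).1 (by decide +kernel))
      (by decide +kernel)) d33_mem (mem_sstab (forall_three (by decide +kernel)))))
    (by decide +kernel)
  obtain ⟨c, h4, h5⟩ := h3 g hg
  exact mem_realS _ _ (h2.1.le hg) h4 h5

end Cfsg.Agent.Asch
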