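import Cfsg.Agent.Asch.SU4

/-! Subgroups of `3.A₇ < SU₃(5)`. -/

set_option autoImplicit false

namespace Cfsg.Agent.Asch

open Matrix Cfsg.Geo Subgroup

/-- Words in given generators. -/
def wd {G : Type*} [Group G] {m : ℕ} (g : Fin m → G) (l : List (Fin m)) : G := (l.map g).prod

theorem wd_mem {G : Type*} [Group G] {m : ℕ} {g : Fin m → G} {T : Subgroup G} (h : ∀ i, g i ∈ T)
    (l : List (Fin m)) : wd g l ∈ T :=
  T.list_prod_mem fun x hx => by obtain ⟨i, -, rfl⟩ := List.mem_map.1 hx; exact h i

instance factFive : Fact (Nat.Prime 5) := ⟨Nat.prime_five⟩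

instance factK25 : Fact (∀ r : ZMod 5, r ^ 2 ≠ 2 + 0 * r) := ⟨by decide⟩

/-- The field with `25` elements. -/
abbrev K25 := QuadraticAlgebra (ZMod 5) 2 0

theorem exists_K25 {F : Type*} [Field F] [Fintype F] (hF : Fintype.card F = 5 ^ 2) :
    ∃ e : K25 ≃+* F, ∀ x, e (starRingAut x) = fq hF (e x) :=
  exists_qa hF K25 (by decide +kernel) (by decide +kernel)

/-- A generator of `3.A₇`. -/
def a35 : GL (Fin 3) K25 := uGL (τ := starRingAut)
  !![⟨2, 0⟩, ⟨4, 3⟩, ⟨1, 1⟩; ⟨0, 4⟩, ⟨0, 0⟩, ⟨1, 3⟩; ⟨2, 0⟩, ⟨1, 2⟩, ⟨1, 1⟩]
  (by decide +kernel)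

theorem a35_mem : a35 ∈ SU1 _ starRingAut := uGL_mem _ (by decide +kernel)

/-- A generator of `3.A₇`. -/
def b35 : GL (Fin 3) K25 := uGL (τ := starRingAut)
  !![⟨1, 4⟩, ⟨3, 3⟩, ⟨1, 0⟩; ⟨2, 3⟩, ⟨2, 2⟩, ⟨3, 0⟩; ⟨2, 3⟩, ⟨4, 4⟩, ⟨4, 0⟩]
  (by decide +kernel)

theorem b35_mem : b35 ∈ SU1 _ starRingAut := uGL_mem _ (by decide +kernel)

/-- A transvection. -/
def w35 : GL (Fin 3) K25 := uGL (τ := starRingAut)
  !![⟨1, 0⟩, ⟨0, 0⟩, ⟨0, 0⟩; ⟨0, 0⟩, ⟨1, 1⟩, ⟨3, 1⟩; ⟨0, 0⟩, ⟨2, 1⟩, ⟨1, 4⟩]
  (by decide +kernel)

theorem w35_mem : w35 ∈ SU1 _ starRingAut := uGL_mem _ (by decide +kernel)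

/-- A diagonal matrix. -/
def d35 : GL (Fin 3) K25 := uGL (τ := starRingAut)
  !![⟨3, 2⟩, ⟨0, 0⟩, ⟨0, 0⟩; ⟨0, 0⟩, ⟨3, 3⟩, ⟨0, 0⟩; ⟨0, 0⟩, ⟨0, 0⟩, ⟨1, 0⟩]
  (by decide +kernel)

theorem d35_mem : d35 ∈ SU1 _ starRingAut := uGL_mem _ (by decide +kernel)

/-- A diagonal matrix. -/
def e35 : GL (Fin 3) K25 := uGL (τ := starRingAut)
  !![⟨1, 0⟩, ⟨0, 0⟩, ⟨0, 0⟩; ⟨0, 0⟩, ⟨3, 2⟩, ⟨0, 0⟩; ⟨0, 0⟩, ⟨0, 0⟩, ⟨3, 3⟩]
  (by decide +kernel)

theorem e35_mem : e35 ∈ SU1 _ starRingAut := uGL_mem _ (by decide +kernel)

/-- An element of order `7`. -/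
def x35 : GL (Fin 3) K25 := uGL (τ := starRingAut)
  !![⟨4, 2⟩, ⟨1, 4⟩, ⟨3, 0⟩; ⟨1, 2⟩, ⟨2, 0⟩, ⟨4, 4⟩; ⟨0, 0⟩, ⟨1, 3⟩, ⟨1, 2⟩]
  (by decide +kernel)

theorem x35_mem : x35 ∈ SU1 _ starRingAut := uGL_mem _ (by decide +kernel)

/-- The centres of the involutions of `A₇`. -/
def mA7 : ℕ := 0x1400000000000000002000402002000000060104000000025000040000000400010000002404100000000600000002000400000000000000050000400400022000040400020200004400000000000000020002000108000000000000000000000000000000000000000100040000000000000000000000000008002000000000042002000200000000000000000000000000000000000000000000000000000108004001000000000000000000000000000000000000000100010000000000000000000000000008000800000001000400010800000000000000000000000000000000000000000000002000400000000000000202002000080200200000009008800000001800000000000600880000000242002000000000202000000000000000080010400010008200001400000a0000104000000000200200000000000000200008000000100000080000000000000000010000000000004000000000000000000800000200008000000000000008008000000020000000000060000030000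0001948200000060000000000000200200000000800000400000000000000000080000000000020000000000000000004000000200200000000000000000001800000100000040001020000800000000ca4100104000000000000000000009000000000000100004000000600000000000000000000000064000100000000000000000009000000000000004100000000008008000440000220001001000000004000024000000000000008800000000000000000000608008000000000000000000000800800000018000000000000008800000000000000000000900000020000800410000208004000100000003000040000000000000000001800000100000080000000000000000010000000000004000000000000000000800000000001800000000000040001000000020000001001000800800000000194820000000100040100010000000000000000000000000000000000000000021000000000000000000000000000001080000000040004010004000000000000000000000000000000000000000000000400010000000000000000000600000040000020000000000000000004000000000001000000000000000000200000000000600000000000010000400000008000000400400200200000000065208000002400000000000000880000000000000000000060800800000000000000000000080080000001800000000000000880000000000000000000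09000000200008004100002080040001000000020410000000000000000000024000000000000400010000001800000000000000000000000190000400000000000000000024000000000000010400000000020020001100000880004004000000010000060000000000000200200000000800000400000000000000000080000000000020000000000000000004000000200200000000000000000001800000100000040001020000800000000ca41000000008002008000800000000000000000000000000000000000000001080000000000000000000000000000084000000002000200800200000000000000000000000000000000000000000000002000400000000000000202002000080200200000009008800000001800000000000600880000000242002000000000202000000000000000080010400010008200001400000a000010400000000000000000420010004000000000000000000000000000000000000000400040000000000000000000000000020002000000004001000042000000000000000000000000000000000000000000000000000020002000108000000000000000000000000000000000000000100040000000000000000000000000008002000000000042002000200000000000000000000000000000000000000000000000500000000000000000800100800800000018041000000009400010000000100004000000901040000000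180000000800100000000000000014000100100008800010100008080001100000000004004000000000000004000100000002000001000000000000000000200000000000080000000000000000010000004000100000000000000100100000000400000000000c00000600000003290400220000000000000000082000000000000000080080200008000000000000000000020000802002000000000000000082000000000000000008800000000000000c00000900000480000180000010404000000000000000014000000006400010004400004100010010000000004004000410000110004000100000000014000000000000000010100000000c0000090400080200040000012000000020200000000000000000a00000000320000800220000208000800800000000200200020800008800200008000000000a00000000000000000808000000060000048200040100020000009000000004400000000000000001040000000000000001001004000100000000000000000000400010040040000000000000001040000000000000000110000000000000018000012000009000003000000200000000000000000000000001948200ca410000000400000219482000000006520800000020000010ca410000000000000000000000000000000003290400000010000000000000000002063012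

theorem a35_mem' : a35 ∈ sstab (mset 2 0 mA7) := mem_mset (by decide +kernel)

theorem b35_mem' : b35 ∈ sstab (mset 2 0 mA7) := mem_mset (by decide +kernel)

theorem wA7 (l : List (Fin 2)) : wd ![a35, b35] l ∈ sstab (mset 2 0 mA7) ⊓ SU1 _ starRingAut :=
  wd_mem (Fin.forall_fin_two.2 ⟨mem_inf.2 ⟨a35_mem', a35_mem⟩, mem_inf.2 ⟨b35_mem', b35_mem⟩⟩) l

theorem wA7' {g : GL (Fin 3) K25} (l : List (Fin 2)) (h : (wd ![a35, b35] l).val = g.val) :
    g ∈ sstab (mset 2 0 mA7) ⊓ SU1 _ starRingAut := Units.ext h ▸ wA7 l

theorem w35_not : w35 ∉ sstab (mset 2 0 mA7) :=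
  not_mem_mset ![⟨0, 0⟩, ⟨0, 0⟩, ⟨1, 0⟩] (by decide +kernel) (by decide +kernel)

theorem x35_mem' : x35 ∈ sstab (mset 2 0 mA7) ⊓ SU1 _ starRingAut :=
  wA7' [0, 1, 1, 1, 0, 1, 0, 0, 1, 1, 0, 1, 1] (by decide +kernel)

theorem diag35 : ∀ a : K25, a * star a = 1 → ∀ b : K25, b * star b = 1 → ∀ c : K25, a * b * c = 1 →
    ∃ i j : Fin 6, (d35 ^ i.val * e35 ^ j.val).val = diagonal ![a, b, c] := by
  simp only [Units.val_mul, Units.val_pow_eq_pow_val]; decide +kernel

theorem perm35 : ∀ π : Equiv.Perm (Fin 3), ∃ l ∈ [[], [0, 0, 1, 1, 1, 1, 1, 1, 0, 1, 0, 1, 1, 1], [0, 1, 0, 1, 0, 0, 1, 0, 0, 1, 0, 0, 1], [1, 0, 0, 1, 0, 0, 1, 1, 0, 1], [0, 1, 1, 1, 1, 1, 1, 0, 1, 0, 1], [0, 0, 1, 1, 0, 0, 1, 0, 0, 0, 1]],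
    (wd ![a35, b35] l).val = mono π fun _ => ((Equiv.Perm.sign π : ℤ) : K25) := by decide +kernel

variable {F : Type*} [Field F] [Fintype F] (hF : Fintype.card F = 5 ^ 2)
  {H : Subgroup (GL (Fin 3) F)} (hH : IsMaximalIn (GU 3 F 5 ⊓ specialLinear (Fin 3) F) H)

include hF hH

theorem not_frame5 {D : Fin 3 → Submodule F (Fin 3 → F)}
    (hD : IsNondegenerateMDecomposition (hermForm 3 F 5) 1 D) : ¬ H ≤ decompositionStabilizer D := by
  intro h
  obtain ⟨e, he⟩ := exists_K25 hF
  obtain ⟨H, h1, h2⟩ := frame_red (sesq_herm hF 3) (fq_ne hF) hD hH h e he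
  refine (h2 _ (not_max h1 (fun g hg => ?_) w35_mem w35_not x35_mem'.2 x35_mem'.1)).elim
    fun π ⟨a, h3⟩ => ?_
  · obtain ⟨π, a, h3⟩ := h2 g hg
    have h4 := (mem_SU1.1 (h1.1.le hg)).2
    have h5 : ∀ i, ((Equiv.Perm.sign π : ℤ) : K25) * a i * star (((Equiv.Perm.sign π : ℤ) : K25) * a i)
        = 1 := fun i => by
      have := mem_iso.1 (h1.1.le hg).1 (Pi.single i 1) (Pi.single i 1)
      rw [h3, mono_single, form_one, form_one] at this
      rw [star_mul', star_intCast, mul_mul_mul_comm, ← sq, sign_sq, one_mul]
      simpa [Pi.single_apply, apply_ite star] using this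
    rw [h3, det_mono, Fin.prod_univ_three] at h4
    obtain ⟨i, j, h6⟩ := diag35 _ (h5 0) _ (h5 1) (((Equiv.Perm.sign π : ℤ) : K25) * a 2) (by
      linear_combination h4 + (((Equiv.Perm.sign π : ℤ) : K25) * (a 0 * a 1 * a 2)) * sign_sq (F := K25) π)
    obtain ⟨l, -, h7⟩ := perm35 π
    have h8 : g = wd ![a35, b35] l * (d35 ^ i.val * e35 ^ j.val) := Units.ext (by
      rw [Units.val_mul, h6, h7, h3, ← mono_one, mono_mul, mul_one]
      congr 1; funext k
      fin_cases k <;> simp [← mul_assoc, ← sq, sign_sq])
    exact h8 ▸ mul_mem (wA7 l).1 (mul_mem (pow_mem (wA7' [1, 0, 1, 1]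
      (by decide +kernel)).1 _) (pow_mem (wA7' [0, 1, 0, 1, 0, 0, 0, 1, 0, 1, 1, 0] (by decide +kernel)).1 _))
  · have h4 := congrArg (· *ᵥ Pi.single 0 1) h3
    simp only [mono_single] at h4
    revert h4; generalize π 0 = i, a 0 * 1 = c; revert i c; decide +kernel

theorem not_fld35 {K : Subalgebra F (Matrix (Fin 3) (Fin 3) F)} (hK : IsFieldSubalgebra 3 K)
    (ha : IsAdjointClosedFor (hermForm 3 F 5) K) : ¬ H ≤ subalgebraNormalizer K := by
  intro h
  have h1 : x35 ^ 7 = 1 := Units.ext (by rw [Units.val_pow_eq_pow_val]; decide +kernel)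
  have h2 : x35 ≠ 1 := fun h => absurd (congrArg Units.val h) (by decide +kernel)
  haveI : Fact (Nat.Prime 7) := ⟨by norm_num⟩
  obtain ⟨H, h3, h4⟩ := singer_red hF (by norm_num) hK ha hH h (p := 7) (N := 21) Fact.out
    (by norm_num) (by norm_num) (by norm_num) (by norm_num)
    (fact_su hF (by omega) Fact.out 54000 (by decide) (by decide)) (exists_K25 hF) x35_mem h1 h2
  refine h4.false h3 _ (wA7 [1, 0, 1, 0, 1, 1, 0, 0, 1, 1, 0, 1, 1]) (Units.ext (by decide +kernel))
    (orderOf_eq_of_pow_and_pow_div_prime (by omega)
      (Units.ext (by rw [Units.val_pow_eq_pow_val]; decide +kernel)) fun p hp hd h => ?_)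
    (wA7 [0, 0, 0, 1, 0, 0, 1, 0, 1, 0, 1, 1, 1])
    (Units.ext (by rw [Units.val_mul, Units.val_mul, Units.val_pow_eq_pow_val]; decide +kernel))
    (wA7 [1, 0, 1, 1]) (fun h => absurd (congrArg Units.val h.eq) (by decide +kernel)) w35_mem
    w35_not
  have := congrArg Units.val h
  rw [Units.val_pow_eq_pow_val] at this
  obtain rfl | rfl : p = 3 ∨ p = 7 := ((Nat.Prime.dvd_mul hp (m := 3) (n := 7)).1 hd).imp
    (Nat.prime_dvd_prime_iff_eq hp Nat.prime_three).1 (Nat.prime_dvd_prime_iff_eq hp Fact.out).1
  all_goals revert this; decide +kernel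

end Cfsg.Agent.Asch
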